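import Groth.Agent.VarDim.Local
import Mathlib.RingTheory.Spectrum.Prime.Chevalley
import Mathlib.RingTheory.Flat.TorsionFree
import Mathlib.RingTheory.Polynomial.Cyclotomic.Basic
import Mathlib.FieldTheory.Minpoly.Field
import Mathlib.Algebra.CharP.Algebra
import Mathlib.Algebra.Polynomial.SpecificDegree
import Mathlib.FieldTheory.IsAlgClosed.AlgebraicClosure
import Mathlib.AlgebraicGeometry.Morphisms.FiniteType
import Mathlib.AlgebraicGeometry.Noetherian

/-! Global functions algebraic over one base field are algebraic over any other. -/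

namespace Groth.Agent.IntBase

open AlgebraicGeometry CategoryTheory Polynomial

universe u

/-- `1 + T + ... + T^(n-1)` avoiding the roots of a given nonzero polynomial. -/
theorem exists_geom_coprime {k : Type u} [Field k] {g : k[X]} (hg : g ≠ 0) :
    ∃ n : ℕ, 2 ≤ n ∧ IsCoprime g (∑ i ∈ Finset.range n, (X : k[X]) ^ i) := by
  classical
  let Ω := AlgebraicClosure k
  let R : Finset Ω := (g.map (algebraMap k Ω)).roots.toFinset
  let bad : Finset ℕ := insert (ringChar k) (R.image fun α => orderOf α)
  obtain ⟨n, hnbig, hn⟩ := Nat.exists_infinite_primes (bad.sup id + 2)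
  refine ⟨n, by omega, ?_⟩
  have hnotbad : n ∉ bad := fun h => by
    have : id n ≤ bad.sup id := Finset.le_sup h
    simp only [id] at this
    omega
  by_contra hcop
  have hq0 : (∑ i ∈ Finset.range n, (X : k[X]) ^ i) ≠ 0 := by
    intro h
    have h0 := congrArg (fun p : k[X] => p.coeff 0) h
    simp only [finsetSum_coeff, coeff_X_pow, coeff_zero] at h0
    rw [Finset.sum_eq_single 0 (fun b _ hb => if_neg fun e => hb e.symm)
      (fun h0' => absurd (Finset.mem_range.mpr hn.pos) h0'), if_pos rfl] at h0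
    exact one_ne_zero h0
  obtain ⟨d, hd, hdg, hdq⟩ : ∃ d : k[X], Irreducible d ∧ d ∣ g ∧
      d ∣ ∑ i ∈ Finset.range n, (X : k[X]) ^ i := by
    obtain ⟨z, hz, hz0, hzg, hzq⟩ : ∃ z : k[X], ¬ IsUnit z ∧ z ≠ 0 ∧ z ∣ g ∧
        z ∣ ∑ i ∈ Finset.range n, (X : k[X]) ^ i := by
      by_contra! h
      exact hcop (isCoprime_of_dvd _ _ (fun hh => hg hh.1) fun z h1 h2 h3 => h z h1 h2 h3)
    obtain ⟨d, hd, hdz⟩ := WfDvdMonoid.exists_irreducible_factor hz hz0
    exact ⟨d, hd, hdz.trans hzg, hdz.trans hzq⟩
  obtain ⟨α, hα⟩ := IsAlgClosed.exists_aeval_eq_zero Ω d (degree_pos_of_irreducible hd).ne'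
  have hαg : aeval α g = 0 := aeval_eq_zero_of_dvd_aeval_eq_zero hdg hα
  have hαq := aeval_eq_zero_of_dvd_aeval_eq_zero hdq hα
  simp only [map_sum, map_pow, aeval_X] at hαq
  have hpow : α ^ n = 1 := by
    have := geom_sum_mul α n
    rw [hαq, zero_mul] at this
    exact sub_eq_zero.mp this.symm
  have hne : α ≠ 1 := fun h => by
    subst h
    simp only [one_pow, Finset.sum_const, Finset.card_range, nsmul_one] at hαq
    have hk : (n : k) = 0 := by
      apply (algebraMap k Ω).injective
      rw [map_natCast, map_zero, hαq]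
    have := (hn.eq_one_or_self_of_dvd (ringChar k) ((ringChar.spec k n).mp hk)).resolve_left
      (CharP.ringChar_ne_one)
    exact hnotbad (this ▸ Finset.mem_insert_self _ _)
  haveI := Fact.mk hn
  have hord : orderOf α = n := orderOf_eq_prime hpow hne
  refine hnotbad (Finset.mem_insert_of_mem (Finset.mem_image.mpr ⟨α, ?_, hord⟩))
  simp only [R, Multiset.mem_toFinset, mem_roots', ne_eq, IsRoot.def, eval_map_algebraMap]
  exact ⟨map_ne_zero hg, hαg⟩

/-- In a finitely generated domain over a field, an element all whose integral polynomial values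
are zero or units is algebraic. -/
theorem isAlgebraic_of_units {k B : Type u} [Field k] [CommRing B] [IsDomain B] [Algebra k B]
    [Algebra.FiniteType k B] (y : B)
    (hy : ∀ q : ℤ[X], Polynomial.aeval y q ≠ 0 → IsUnit (Polynomial.aeval y q)) : IsAlgebraic k y := by
  by_contra htr
  let φ : k[X] →ₐ[k] B := Polynomial.aeval y
  have hinj : Function.Injective φ := transcendental_iff_injective.mp htr
  letI : Algebra k[X] B := φ.toRingHom.toAlgebra
  haveI : IsScalarTower k k[X] B := IsScalarTower.of_algebraMap_eq fun c => (φ.commutes c).symm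
  haveI : FaithfulSMul k[X] B := (faithfulSMul_iff_algebraMap_injective _ _).mpr hinj
  haveI : Algebra.FiniteType k[X] B := Algebra.FiniteType.of_restrictScalars_finiteType k k[X] B
  haveI : Algebra.FinitePresentation k[X] B := Algebra.FinitePresentation.of_finiteType.mp inferInstance
  haveI : Module.Flat k[X] B := inferInstance
  have hopen := PrimeSpectrum.isOpenMap_comap_of_hasGoingDown_of_finitePresentation (R := k[X]) (S := B)
  have hU := hopen.isOpen_range
  have hne : (Set.range (PrimeSpectrum.comap (algebraMap k[X] B))).Nonempty := Set.range_nonempty _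
  obtain ⟨z, hz⟩ := hne
  obtain ⟨_, ⟨g, rfl⟩, hgz, hgsub⟩ :=
    PrimeSpectrum.isTopologicalBasis_basic_opens.exists_subset_of_mem_open hz hU
  have hg0 : g ≠ 0 := by
    rintro rfl
    simp at hgz
  obtain ⟨n, hn2, hcop⟩ := exists_geom_coprime hg0
  set q : k[X] := ∑ i ∈ Finset.range n, (X : k[X]) ^ i with hq
  have hc : q.coeff 1 = 1 := by
    rw [hq, finsetSum_coeff, Finset.sum_eq_single 1]
    · simp
    · intro b _ hb
      simp [coeff_X, coeff_X_pow, Ne.symm hb]
    · intro h; exact absurd (Finset.mem_range.mpr (by omega)) h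
  have hq0 : q ≠ 0 := fun h => by simp [h] at hc
  have hqdeg : ¬ IsUnit q := by
    intro hu
    have h0 := natDegree_eq_zero_of_isUnit hu
    rw [coeff_eq_zero_of_natDegree_lt (by omega)] at hc
    exact zero_ne_one hc
  obtain ⟨P, hP, hqP⟩ := Ideal.exists_le_maximal (Ideal.span {q})
    (by rwa [Ne, Ideal.span_singleton_eq_top])
  have hqmem : q ∈ P := hqP (Ideal.mem_span_singleton_self q)
  have hgP : g ∉ P := fun hgmem => by
    obtain ⟨a, b, hab⟩ := hcop
    exact hP.ne_top ((Ideal.eq_top_iff_one P).mpr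
      (hab ▸ P.add_mem (P.mul_mem_left a hgmem) (P.mul_mem_left b hqmem)))
  obtain ⟨Q, hQ⟩ := hgsub (show (⟨P, hP.isPrime⟩ : PrimeSpectrum k[X]) ∈ _ from hgP)
  have hqQ : algebraMap k[X] B q ∈ Q.asIdeal := by
    have : q ∈ (PrimeSpectrum.comap (algebraMap k[X] B) Q).asIdeal := by rw [hQ]; exact hqmem
    exact this
  have hval : Polynomial.aeval y (∑ i ∈ Finset.range n, (X : ℤ[X]) ^ i) = algebraMap k[X] B q := by
    show _ = φ q
    simp [φ, hq]
  have hunit := hy _ (by rw [hval]; exact (map_ne_zero_iff _ hinj).mpr hq0)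
  rw [hval] at hunit
  exact Q.isPrime.ne_top (Ideal.eq_top_of_isUnit_mem _ hqQ hunit)

end Groth.Agent.IntBase
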