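import Groth.Agent.IntBase.Basic
import Mathlib.Topology.LocallyConstant.Basic

/-! On a connected reduced scheme of finite type over two fields, integrality of global functions
does not depend on the field. -/

namespace Groth.Agent.IntBase

open AlgebraicGeometry CategoryTheory Polynomial

universe u

variable {X : Scheme.{u}} {k₁ k₂ : Type u} [Field k₁] [Field k₂]
  (a : X ⟶ Spec (CommRingCat.of k₁)) (b : X ⟶ Spec (CommRingCat.of k₂))
  [LocallyOfFiniteType b]

omit [LocallyOfFiniteType b] in
theorem Γev_ne_zero_iff (p : X) (g : Γ(X, ⊤)) : X.Γevaluation p g ≠ 0 ↔ p ∈ X.basicOpen g :=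
  X.evaluation_ne_zero_iff_mem_basicOpen (U := ⊤) p trivial g

theorem isIntegralElem_eval {x : Γ(X, ⊤)} (hx : (VarDim.baseMap a).IsIntegralElem x) (p : X) :
    (VarDim.resHom b p).IsIntegralElem (X.Γevaluation p x) := by
  obtain ⟨U, hU, hp, -⟩ := exists_isAffineOpen_mem_and_subset (x := p) (U := ⊤) trivial
  letI := ((X.presheaf.map (homOfLE (le_top (a := U))).op).hom.comp (VarDim.baseMap b)).toAlgebra
  haveI : Algebra.FiniteType k₂ Γ(X, U) := by
    have h := b.finiteType_appLE (isAffineOpen_top (Spec (CommRingCat.of k₂))) hU (by simp)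
    have h2 : ((b.appLE ⊤ U (by simp)).hom.comp (Scheme.ΓSpecIso (CommRingCat.of k₂)).inv.hom).FiniteType :=
      h.comp (RingHom.FiniteType.of_surjective _
        (Scheme.ΓSpecIso (CommRingCat.of k₂)).symm.commRingCatIsoToRingEquiv.surjective)
    exact RingHom.finiteType_algebraMap.1 (show (algebraMap k₂ Γ(X, U)).FiniteType from h2)
  letI := (VarDim.resHom b p).toAlgebra
  have hev : ∀ g : Γ(X, ⊤), X.evaluation U p hp (X.presheaf.map (homOfLE (le_top (a := U))).op g) =
      X.Γevaluation p g := fun g => by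
    show X.residue p (X.presheaf.germ U p hp _) = X.residue p (X.presheaf.germ ⊤ p trivial g)
    rw [X.presheaf.germ_res_apply]
  let evU : Γ(X, U) →ₐ[k₂] X.residueField p :=
    { (X.evaluation U p hp).hom with commutes' := fun c => hev (VarDim.baseMap b c) }
  let B : Subalgebra k₂ (X.residueField p) := evU.range
  haveI : Algebra.FiniteType k₂ B :=
    Algebra.FiniteType.of_surjective evU.rangeRestrict (AlgHom.rangeRestrict_surjective evU)
  let r : Γ(X, ⊤) →+* B :=
    evU.rangeRestrict.toRingHom.comp (X.presheaf.map (homOfLE (le_top (a := U))).op).hom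
  have hr : ∀ g, ((r g : B) : X.residueField p) = X.Γevaluation p g := hev
  let y : B := r x
  have halg : IsAlgebraic k₂ y := by
    refine isAlgebraic_of_units y fun q hq => ?_
    let φ : k₁ →+* B := r.comp (VarDim.baseMap a)
    letI : Algebra k₁ B := φ.toAlgebra
    have hyint : IsIntegral k₁ y := by
      obtain ⟨m, hm, hm0⟩ := hx
      exact ⟨m, hm, by
        show Polynomial.eval₂ (r.comp (VarDim.baseMap a)) (r x) m = 0
        rw [← Polynomial.hom_eval₂, hm0, map_zero]⟩
    have hmem : Polynomial.aeval y q ∈ Algebra.adjoin k₁ ({y} : Set B) := by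
      have : Polynomial.aeval y q = Polynomial.aeval y (q.map (algebraMap ℤ k₁)) :=
        (aeval_map_algebraMap k₁ y q).symm
      rw [this]
      exact Algebra.adjoin_singleton_eq_range_aeval k₁ y ▸ ⟨_, rfl⟩
    haveI : Algebra.IsIntegral k₁ (Algebra.adjoin k₁ ({y} : Set B)) :=
      Algebra.IsIntegral.adjoin (by simpa using hyint)
    have hf : IsField (Algebra.adjoin k₁ ({y} : Set B)) :=
      isField_of_isIntegral_of_isField' (Field.toIsField k₁)
    obtain ⟨z, hz⟩ := hf.mul_inv_cancel (a := ⟨_, hmem⟩) (fun h => hq (congrArg Subtype.val h))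
    exact IsUnit.of_mul_eq_one (a := Polynomial.aeval y q) (z : B) (congrArg Subtype.val hz)
  have : IsAlgebraic k₂ (X.Γevaluation p x) := by
    rw [← hr x]
    exact halg.algHom B.val
  exact this.isIntegral

theorem isIntegralElem_of [IsReduced X] [ConnectedSpace X] {x : Γ(X, ⊤)}
    (hx : (VarDim.baseMap a).IsIntegralElem x) : (VarDim.baseMap b).IsIntegralElem x := by
  classical
  haveI : IsLocallyNoetherian X := LocallyOfFiniteType.isLocallyNoetherian b
  let m : X → k₂[X] := fun p =>
    letI := (VarDim.resHom b p).toAlgebra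
    minpoly k₂ (X.Γevaluation p x)
  have hspec : ∀ p, (m p).eval₂ (VarDim.resHom b p) (X.Γevaluation p x) = 0 := fun p => by
    letI := (VarDim.resHom b p).toAlgebra
    exact minpoly.aeval k₂ (X.Γevaluation p x)
  have heval : ∀ p (P : k₂[X]), X.Γevaluation p (P.eval₂ (VarDim.baseMap b) x) =
      P.eval₂ (VarDim.resHom b p) (X.Γevaluation p x) := fun p P => by
    show (X.Γevaluation p).hom _ = _
    rw [Polynomial.hom_eval₂]
    rfl
  have hspecz : ∀ η p : X, η ⤳ p → m η = m p := by
    intro η p hsp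
    have hint : ∀ q, (VarDim.resHom b q).IsIntegralElem (X.Γevaluation q x) :=
      isIntegralElem_eval a b hx
    have hz : p ∉ X.basicOpen ((m η).eval₂ (VarDim.baseMap b) x) := fun hmem => by
      have : η ∈ X.basicOpen ((m η).eval₂ (VarDim.baseMap b) x) :=
        hsp.mem_open (X.basicOpen _).isOpen hmem
      exact (Γev_ne_zero_iff _ _).mpr this (by rw [heval, hspec])
    have h0 : (m η).eval₂ (VarDim.resHom b p) (X.Γevaluation p x) = 0 := by
      rw [← heval]
      exact by_contra fun h => hz ((Γev_ne_zero_iff _ _).mp h)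
    letI := (VarDim.resHom b η).toAlgebra
    letI := (VarDim.resHom b p).toAlgebra
    exact minpoly.eq_of_irreducible_of_monic (minpoly.irreducible (hint η)) h0 (minpoly.monic (hint η))
  have hlc : IsLocallyConstant m := by
    rw [IsLocallyConstant.iff_exists_open]
    intro p
    obtain ⟨U, hU, hp, -⟩ := exists_isAffineOpen_mem_and_subset (x := p) (U := ⊤) trivial
    haveI : IsNoetherianRing Γ(X, U) := IsLocallyNoetherian.component_noetherian ⟨U, hU⟩
    have hfin : (minimalPrimes Γ(X, U)).Finite := minimalPrimes.finite_of_isNoetherianRing _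
    let bad : Set (PrimeSpectrum Γ(X, U)) := {q | q.asIdeal ∈ minimalPrimes Γ(X, U) ∧ m (hU.fromSpec q) ≠ m p}
    have hbadfin : bad.Finite :=
      (hfin.preimage (fun _ _ _ _ h => PrimeSpectrum.ext h)).subset fun q hq => hq.1
    let C : Set (PrimeSpectrum Γ(X, U)) := ⋃ q ∈ bad, PrimeSpectrum.zeroLocus (q.asIdeal : Set Γ(X, U))
    have hC : IsClosed C := hbadfin.isClosed_biUnion fun q _ => PrimeSpectrum.isClosed_zeroLocus _
    refine ⟨hU.fromSpec '' Cᶜ, hU.fromSpec.isOpenEmbedding.isOpenMap _ hC.isOpen_compl, ?_, ?_⟩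
    · obtain ⟨q, rfl⟩ := VarDim.exists_fromSpec_eq hU hp
      refine ⟨q, fun hmem => ?_, rfl⟩
      obtain ⟨η, ⟨-, hne⟩, hle⟩ := Set.mem_iUnion₂.mp hmem
      exact hne (hspecz _ _ ((VarDim.fromSpec_specializes_iff hU η q).2 hle))
    · rintro _ ⟨q, hq, rfl⟩
      obtain ⟨η, hη, hle⟩ := Ideal.exists_minimalPrimes_le (J := q.asIdeal) (bot_le : (⊥ : Ideal _) ≤ _)
      let ηs : PrimeSpectrum Γ(X, U) := ⟨η, hη.1.1⟩
      rw [← hspecz _ _ ((VarDim.fromSpec_specializes_iff hU ηs q).2 hle)]
      by_contra hne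
      refine hq ?_
      exact Set.mem_iUnion₂.mpr ⟨ηs, ⟨hη, hne⟩, hle⟩
  obtain ⟨p₀⟩ := (inferInstance : Nonempty X)
  refine ⟨m p₀, ?_, ?_⟩
  · letI := (VarDim.resHom b p₀).toAlgebra
    exact minpoly.monic (isIntegralElem_eval a b hx p₀)
  · refine (basicOpen_eq_bot_iff _).mp ?_
    rw [eq_bot_iff]
    intro p hp
    refine absurd ?_ ((Γev_ne_zero_iff _ _).mpr hp)
    rw [heval, hlc.apply_eq_of_preconnectedSpace p₀ p, hspec]

end Groth.Agent.IntBase
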